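import Groth.Agent.GabberAff13.BigDesc.Descent
import Groth.Agent.GabberAff13.DerivedReflect

/-!
# Proper direct images of torsion sheaves on big sites of fine topologies
-/

set_option autoImplicit false
set_option linter.style.haveILetI false
set_option backward.isDefEq.respectTransparency false
set_option backward.isDefEq.respectTransparency.types false
set_option maxHeartbeats 1000000

universe u

open CategoryTheory CategoryTheory.Limits AlgebraicGeometry Opposite

namespace Groth.Agent.GabberAff13.BigDesc

open Groth.Agent.BigSiteLib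

variable {K : Precoverage Scheme.{u}} [∀ S : Scheme.{u}, BigSite.EpsCont Scheme.etalePrecoverage K S]

/-- Higher direct images of torsion sheaves commute with pullback to the big sites. -/
theorem nonempty_piEt_Rpush_iso (hle : Scheme.etalePrecoverage ≤ K) (hv : RefinedByV K) (hr : Refines K)
    {X Y : Scheme.{u}} (f : X ⟶ Y) [IsProper f] [BigSite.AEtCont K X] [BigSite.AEtCont K Y]
    (F : EtCoh.Ab X) (hF : EtCoh.IsTorsion F) (i : ℕ) :
    Nonempty ((BigSite.piEtPull K Y).obj ((EtCoh.Rpush f i).obj F) ≅
      (BigSite.RpushBig K f i).obj ((BigSite.piEtPull K X).obj F)) := by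
  let L := BigSite.epsPull Scheme.etalePrecoverage K Y
  haveI : RepresentablyFlat (𝟭 (Over Y)) := inferInstance
  haveI : PreservesFiniteLimits L := sheafPullback_preservesFiniteLimits (𝟭 (Over Y)) _ _
  haveI : L.IsLeftAdjoint := (BigSite.epsAdj Scheme.etalePrecoverage K Y).isLeftAdjoint
  haveI : PreservesFiniteColimits L := ⟨fun _ => inferInstance⟩
  haveI : L.Additive := (BigSite.epsAdj Scheme.etalePrecoverage K Y).left_adjoint_additive
  haveI : (BigSite.pushBig Scheme.etalePrecoverage f AddCommGrpCat.{u + 1}).IsRightAdjoint :=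
    (BigSite.bigAdj Scheme.etalePrecoverage f AddCommGrpCat.{u + 1}).isRightAdjoint
  haveI : PreservesFiniteLimits (BigSite.pushBig Scheme.etalePrecoverage f AddCommGrpCat.{u + 1}) :=
    ⟨fun _ => inferInstance⟩
  let φ : BigSite.pushBig K f AddCommGrpCat.{u + 1} ⋙ epsK K Y ≅
      epsK K X ⋙ BigSite.pushBig Scheme.etalePrecoverage f AddCommGrpCat.{u + 1} :=
    NatIso.ofComponents (fun G => Iso.refl _) (fun a => (Category.comp_id _).trans (Category.id_comp _).symm)
  obtain ⟨e⟩ := nonempty_piPull_Rpush_iso f i F hF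
  have hF' : TriCat.IsRightAcyclic (epsK K X) (piK hv F) := fun q hq => by
    obtain ⟨m, rfl⟩ := Nat.exists_eq_succ_of_ne_zero hq.ne'
    exact isZero_rightDerived_piK hv (acy hv hle hr m X F hF)
  obtain ⟨g⟩ := nonempty_rightDerived_reflect (BigSite.pushBig K f AddCommGrpCat.{u + 1}) (epsK K X)
    (BigSite.pushBig Scheme.etalePrecoverage f AddCommGrpCat.{u + 1}) (epsK K Y) L
    (BigSite.epsAdj Scheme.etalePrecoverage K Y) φ (piK hv F) hF' i
    (R := piK hv ((EtCoh.Rpush f i).obj F)) e.symm
  haveI := isIso_genHom hle hv F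
  haveI := isIso_genHom hle hv ((EtCoh.Rpush f i).obj F)
  exact ⟨asIso (genHom hv _) ≪≫ g.symm ≪≫ (BigSite.RpushBig K f i).mapIso (asIso (genHom hv F)).symm⟩

end Groth.Agent.GabberAff13.BigDesc
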