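import Groth.Agent.BigSiteLib.FppfDesc.Eps
import Groth.Agent.BigSiteLib.PiVTop
import Groth.Agent.GabberAff13.BigPush

/-!
# Sheaves for fine topologies regarded as big etale sheaves
-/

set_option autoImplicit false
set_option linter.style.haveILetI false
set_option backward.isDefEq.respectTransparency.types false

universe u

open CategoryTheory CategoryTheory.Limits AlgebraicGeometry Opposite

namespace Groth.Agent.GabberAff13.BigDesc

open Groth.Agent.BigSiteLib Groth.Agent.BCCrit13

variable {K : Precoverage Scheme.{u}} (hv : RefinedByV K) {X Y : Scheme.{u}}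

/-- The pullback from the small etale site as a sheaf for a fine topology. -/
noncomputable abbrev piK (F : EtCoh.Ab X) : BigSite.Ab K X :=
  ⟨((BigSite.piEtPull Scheme.etalePrecoverage X).obj F).obj, isSheaf_piPull F hv⟩

/-- The pullback of a morphism. -/
noncomputable abbrev piKMap {F G : EtCoh.Ab X} (a : F ⟶ G) : piK hv F ⟶ piK hv G :=
  ObjectProperty.homMk ((BigSite.piEtPull Scheme.etalePrecoverage X).map a).hom

/-- Restriction of a pulled back sheaf. -/
noncomputable def piKPullIso (p : Y ⟶ X) (F : EtCoh.Ab X) : piK hv ((EtCoh.pull p).obj F) ≅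
    (BigSite.pullBig K p AddCommGrpCat.{u + 1}).obj (piK hv F) :=
  (fullyFaithfulSheafToPresheaf _ _).preimageIso
    (show (piK hv ((EtCoh.pull p).obj F)).obj ≅ _ from
      (sheafToPresheaf (QuotSh.J Scheme.etalePrecoverage Y) _).mapIso ((piPullIso p).app F))

variable [∀ S : Scheme.{u}, BigSite.EpsCont Scheme.etalePrecoverage K S]

variable (K) in
/-- A sheaf for the fine topology as an etale sheaf. -/
noncomputable abbrev epsK (X : Scheme.{u}) : BigSite.Ab K X ⥤ BigSite.Ab Scheme.etalePrecoverage X :=
  BigSite.eps Scheme.etalePrecoverage K X AddCommGrpCat.{u + 1}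

instance eps_faithful : (epsK K X).Faithful :=
  ⟨fun {F G a b} h => ObjectProperty.hom_ext _ (NatTrans.ext (funext fun V => congr(($h).hom.app V)))⟩

instance eps_full : (epsK K X).Full :=
  ⟨fun {F G} a => ⟨ObjectProperty.homMk { app := fun V => a.hom.app V, naturality := fun _ _ k => a.hom.naturality k },
    ObjectProperty.hom_ext _ (NatTrans.ext (funext fun _ => rfl))⟩⟩

instance eps_preservesFiniteLimits : PreservesFiniteLimits (epsK K X) := by
  haveI : (epsK K X).IsRightAdjoint :=
    (BigSite.epsAdj Scheme.etalePrecoverage K X).isRightAdjoint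
  infer_instance

instance eps_preservesInjective : (epsK K X).PreservesInjectiveObjects := by
  haveI : RepresentablyFlat (𝟭 (Over X)) := inferInstance
  let L := BigSite.epsPull Scheme.etalePrecoverage K X
  haveI : PreservesFiniteLimits L := sheafPullback_preservesFiniteLimits (𝟭 (Over X)) _ _
  haveI : L.PreservesMonomorphisms := inferInstance
  exact ⟨fun {I} hI => (BigSite.epsAdj Scheme.etalePrecoverage K X).map_injective I hI⟩

omit [∀ S : Scheme.{u}, BigSite.EpsCont Scheme.etalePrecoverage K S] in
theorem mono_unit_piPull (p : Y ⟶ X) [Surjective p] (F : EtCoh.Ab X) :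
    Mono ((BigSite.bigAdj Scheme.etalePrecoverage p AddCommGrpCat.{u + 1}).unit.app
      ((BigSite.piEtPull Scheme.etalePrecoverage X).obj F)) := by
  refine (sheafToPresheaf _ _).mono_of_mono_map ?_
  have : ∀ W, Mono (((BigSite.bigAdj Scheme.etalePrecoverage p AddCommGrpCat.{u + 1}).unit.app
      ((BigSite.piEtPull Scheme.etalePrecoverage X).obj F)).hom.app W) := fun W => by
    refine (AddCommGrpCat.mono_iff_injective _).2 fun a b h => ?_
    haveI : Surjective (pullback.fst W.unop.hom p) := MorphismProperty.pullback_fst (P := @Surjective) _ _ ‹Surjective p›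
    exact EtInd.ext_fam (etInduced_piP F) (I := PUnit.{1})
      (T := fun _ => (Over.map p).obj ((Over.pullback p).obj W.unop))
      (fun _ => (Over.mapPullbackAdj p).counit.app W.unop)
      (fun y => ⟨PUnit.unit, (pullback.fst W.unop.hom p).surjective y⟩) fun _ => h
  exact @NatTrans.mono_of_mono_app _ _ _ _ _ _ _ this

omit [∀ S : Scheme.{u}, BigSite.EpsCont Scheme.etalePrecoverage K S] in
theorem isTorsion_resEt_of_epi {A : BigSite.Ab Scheme.etalePrecoverage X} {G : EtCoh.Ab X}
    (q : (BigSite.piEtPull Scheme.etalePrecoverage X).obj G ⟶ A) [Epi q] (hG : EtCoh.IsTorsion G) :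
    EtCoh.IsTorsion ((BigSite.resEt Scheme.etalePrecoverage X).obj A) := by
  haveI : (BigSite.resEt Scheme.etalePrecoverage X).IsLeftAdjoint :=
    (BigSite.iEtAdj Scheme.etalePrecoverage X).isLeftAdjoint
  haveI : Epi ((BigSite.resEt Scheme.etalePrecoverage X).map q) := Functor.map_epi _ _
  haveI := isIso_unit X G
  exact isTorsion_of_epi ((BigSite.piEtAdj Scheme.etalePrecoverage X).unit.app G ≫
    (BigSite.resEt Scheme.etalePrecoverage X).map q) hG

omit [∀ S : Scheme.{u}, BigSite.EpsCont Scheme.etalePrecoverage K S] in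
/-- A big etale sheaf pulled back from the small site as a sheaf for the fine topology. -/
noncomputable def isoPiK {G : BigSite.Ab K X} (F : EtCoh.Ab X)
    (e : ((BigSite.piEtPull Scheme.etalePrecoverage X).obj F).obj ≅ G.obj) : piK hv F ≅ G :=
  (fullyFaithfulSheafToPresheaf _ _).preimageIso (show (piK hv F).obj ≅ G.obj from e)

end Groth.Agent.GabberAff13.BigDesc
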