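import Groth.Agent.GabberAff13.BigDesc.CycleAcyclic
import Groth.Agent.GabberAff13.BigDesc.Eps
import Groth.Agent.BigSiteLib.FppfDesc.Main
import Groth.Agent.EtFound.AcyclicComp

/-!
# Cohomological descent from fine topologies to the big etale site for torsion sheaves
-/

set_option autoImplicit false
set_option linter.style.haveILetI false
set_option linter.unusedSectionVars false
set_option backward.isDefEq.respectTransparency false
set_option backward.isDefEq.respectTransparency.types false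
set_option maxHeartbeats 1000000

universe u

open CategoryTheory CategoryTheory.Limits AlgebraicGeometry Opposite

namespace Groth.Agent.GabberAff13.BigDesc

open Groth.Agent.BigSiteLib Groth.Agent.BCCrit13
open Groth.Agent.BigSiteLib.FppfDesc (scAt exactAt_of_scAt scAt_of_exactAt InPi inPi_pi inPi_of_iso inPi_cokernel
  exists_coboundary exact_of_locally_boundary locally_boundary exists_kernel_section)

variable {K : Precoverage Scheme.{u}} (hle : Scheme.etalePrecoverage ≤ K) (hv : RefinedByV K)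
  [∀ S : Scheme.{u}, BigSite.EpsCont Scheme.etalePrecoverage K S] {X Y : Scheme.{u}}

include hle in
theorem exact_of_eps {S : ShortComplex (BigSite.Ab K X)} (h : (S.map (epsK K X)).Exact) : S.Exact :=
  exact_of_locally_boundary fun U x hx =>
    BigSite.J_mono hle X U (locally_boundary h x hx)

/-- The pullback of a small sheaf has no higher direct images in degree `m + 1`. -/
def Acy (m : ℕ) (X : Scheme.{u}) (F : EtCoh.Ab X) : Prop :=
  ∀ I : InjectiveResolution (piK hv F), ((scAt I.cocomplex m).map (epsK K X)).Exact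

theorem isZero_rightDerived_piK {m : ℕ} {F : EtCoh.Ab X} (h : Acy hv m X F) :
    IsZero (((epsK K X).rightDerived (m + 1)).obj (piK hv F)) := by
  let I := injectiveResolution (piK hv F)
  refine IsZero.of_iso ?_ (I.isoRightDerivedObj (epsK K X) (m + 1))
  exact (HomologicalComplex.exactAt_iff_isZero_homology _ _).1
    (exactAt_of_scAt (((epsK K X).mapHomologicalComplex _).obj I.cocomplex) m (h I))

omit [∀ S : Scheme.{u}, BigSite.EpsCont Scheme.etalePrecoverage K S] in
theorem isTorsion_pull (p : Y ⟶ X) {F : EtCoh.Ab X} (hF : EtCoh.IsTorsion F) : EtCoh.IsTorsion ((EtCoh.pull p).obj F) :=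
  (isLTorsion_univ_iff _).1 (EtFound.isLTorsion_pull p Set.univ ((isLTorsion_univ_iff _).2 hF))

section Proper

variable (p : Y ⟶ X)

/-- The adjoint of a morphism out of the pullback. -/
noncomputable abbrev jMor {F : EtCoh.Ab X} {G : EtCoh.Ab Y} (φ : (EtCoh.pull p).obj F ⟶ G) :
    piK hv F ⟶ (BigSite.pushBig K p AddCommGrpCat.{u + 1}).obj (piK hv G) :=
  (BigSite.bigAdj K p AddCommGrpCat.{u + 1}).unit.app (piK hv F) ≫
    (BigSite.pushBig K p AddCommGrpCat.{u + 1}).map ((piKPullIso hv p F).inv ≫ piKMap hv φ)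

theorem mono_eps_jMor [Surjective p] {F : EtCoh.Ab X} {G : EtCoh.Ab Y} (φ : (EtCoh.pull p).obj F ⟶ G) [Mono φ] :
    Mono ((epsK K X).map (jMor hv p φ)) := by
  haveI := piEtPull_exact Y Scheme.etalePrecoverage
  haveI : Mono ((BigSite.piEtPull Scheme.etalePrecoverage Y).map φ) :=
    (BigSite.piEtPull Scheme.etalePrecoverage Y).map_mono φ
  haveI : Mono ((epsK K Y).map (piKMap hv φ)) :=
    inferInstanceAs (Mono ((BigSite.piEtPull Scheme.etalePrecoverage Y).map φ))
  haveI : (BigSite.pushBig Scheme.etalePrecoverage p AddCommGrpCat.{u + 1}).IsRightAdjoint :=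
    (BigSite.bigAdj Scheme.etalePrecoverage p AddCommGrpCat.{u + 1}).isRightAdjoint
  haveI h1 : Mono ((epsK K Y).map ((piKPullIso hv p F).inv ≫ piKMap hv φ)) := by
    rw [Functor.map_comp]; infer_instance
  haveI h2 := (BigSite.pushBig Scheme.etalePrecoverage p AddCommGrpCat.{u + 1}).map_mono
    ((epsK K Y).map ((piKPullIso hv p F).inv ≫ piKMap hv φ))
  haveI h3 := BigDesc.mono_unit_piPull p F
  exact mono_comp
    ((BigSite.bigAdj Scheme.etalePrecoverage p AddCommGrpCat.{u + 1}).unit.app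
      ((BigSite.piEtPull Scheme.etalePrecoverage X).obj F))
    ((BigSite.pushBig Scheme.etalePrecoverage p AddCommGrpCat.{u + 1}).map
      ((epsK K Y).map ((piKPullIso hv p F).inv ≫ piKMap hv φ)))

variable [IsProper p] [Surjective p]

theorem exists_short {F : EtCoh.Ab X} {G : EtCoh.Ab Y} (φ : (EtCoh.pull p).obj F ⟶ G) [Mono φ]
    (hG : EtCoh.IsTorsion G) (hle : Scheme.etalePrecoverage ≤ K) :
    ∃ (S : ShortComplex (BigSite.Ab K X)) (F₁ : EtCoh.Ab X) (e₁ : S.X₁ ≅ piK hv F)
      (e₂ : S.X₂ ≅ (BigSite.pushBig K p AddCommGrpCat.{u + 1}).obj (piK hv G)) (_ : piK hv F₁ ≅ S.X₃),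
      EtCoh.IsTorsion F₁ ∧ S.ShortExact ∧ Epi ((epsK K X).map S.g) ∧ S.f = e₁.hom ≫ jMor hv p φ ≫ e₂.inv := by
  let M := (BigSite.pushBig K p AddCommGrpCat.{u + 1}).obj (piK hv G)
  let j : piK hv F ⟶ M := jMor hv p φ
  haveI : Mono ((epsK K X).map j) := mono_eps_jMor hv p φ
  haveI : Mono j := (epsK K X).mono_of_mono_map inferInstance
  haveI := isIso_theta_of_proper p G
  have hA : InPi ((epsK K X).obj (piK hv F)) := inPi_pi F
  let θ : (BigSite.piEtPull Scheme.etalePrecoverage X).obj ((EtCoh.push p).obj G) ≅ (epsK K X).obj M := asIso (theta p G)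
  have hB : InPi ((epsK K X).obj M) := inPi_of_iso θ (inPi_pi _)
  have hK := inPi_cokernel ((epsK K X).map j) hA hB
  let c := cokernel ((epsK K X).map j)
  let F₁ := (BigSite.resEt Scheme.etalePrecoverage X).obj c
  haveI : IsIso ((BigSite.piEtAdj Scheme.etalePrecoverage X).counit.app c) := hK
  let eH : (BigSite.piEtPull Scheme.etalePrecoverage X).obj F₁ ≅ c :=
    asIso ((BigSite.piEtAdj Scheme.etalePrecoverage X).counit.app c)
  let g : M ⟶ piK hv F₁ := (epsK K X).preimage
    (show (epsK K X).obj M ⟶ (epsK K X).obj (piK hv F₁) from cokernel.π ((epsK K X).map j) ≫ eH.inv)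
  have hg : (epsK K X).map g = cokernel.π ((epsK K X).map j) ≫ eH.inv := (epsK K X).map_preimage _
  have w : j ≫ g = 0 := (epsK K X).map_injective (by
    rw [Functor.map_comp, hg, Functor.map_zero]
    exact (Category.assoc _ _ _).symm.trans ((congrArg (· ≫ eH.inv) (cokernel.condition _)).trans zero_comp))
  haveI : Epi ((epsK K X).map g) := by
    rw [hg]; exact (inferInstance : Epi (cokernel.π ((epsK K X).map j) ≫ eH.inv))
  haveI : Epi g := (epsK K X).epi_of_epi_map inferInstance
  have hex : ((ShortComplex.mk j g w).map (epsK K X)).Exact := by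
    refine ShortComplex.exact_of_g_is_cokernel _ (IsColimit.ofIsoColimit (cokernelIsCokernel ((epsK K X).map j)) ?_)
    exact Cofork.ext eH.symm hg.symm
  haveI : EtCoh.BCCont p := inferInstance
  have htor : EtCoh.IsTorsion F₁ := isTorsion_resEt_of_epi (θ.hom ≫ cokernel.π ((epsK K X).map j))
    (EtFound.isTorsion_of_iso ((EtCoh.push p).rightDerivedZeroIsoSelf.app G) (EtFound.isTorsion_Rpush p hG 0))
  exact ⟨ShortComplex.mk j g w, F₁, Iso.refl _, Iso.refl _, Iso.refl _, htor,
    ShortComplex.ShortExact.mk' (exact_of_eps hle hex) inferInstance inferInstance, inferInstance, by simp [j, M]⟩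

theorem mono_rightDerived_jMor {F : EtCoh.Ab X} {G : EtCoh.Ab Y} (φ : (EtCoh.pull p).obj F ⟶ G) [Mono φ]
    (hG : EtCoh.IsTorsion G) (hle : Scheme.etalePrecoverage ≤ K) (m : ℕ)
    (ih : ∀ k < m, ∀ F₁ : EtCoh.Ab X, EtCoh.IsTorsion F₁ → Acy hv k X F₁) :
    Mono (((epsK K X).rightDerived (m + 1)).map (jMor hv p φ)) := by
  obtain ⟨S, F₁, e₁, e₂, e₃, hF₁, hS, hg, hf⟩ := exists_short hv p φ hG hle
  letI := HasDerivedCategory.standard (BigSite.Ab K X)
  letI := HasDerivedCategory.standard (BigSite.Ab Scheme.etalePrecoverage X)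
  obtain ⟨δ, w₁, w₂, w₃, -, h₂, h₃⟩ := TriCat.exists_rightDerived_ses (epsK K X) hS m
  have hδ : δ = 0 := by
    rcases m with _ | k
    · haveI := hg
      have hn : ((epsK K X).rightDerived 0).map S.g ≫ (epsK K X).rightDerivedZeroIsoSelf.hom.app S.X₃ =
          (epsK K X).rightDerivedZeroIsoSelf.hom.app S.X₂ ≫ (epsK K X).map S.g :=
        (epsK K X).rightDerivedZeroIsoSelf.hom.naturality S.g
      haveI : Epi (((epsK K X).rightDerived 0).map S.g) := by
        have : ((epsK K X).rightDerived 0).map S.g = (epsK K X).rightDerivedZeroIsoSelf.hom.app S.X₂ ≫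
            (epsK K X).map S.g ≫ inv ((epsK K X).rightDerivedZeroIsoSelf.hom.app S.X₃) := by
          rw [← Category.assoc, ← hn, Category.assoc, IsIso.hom_inv_id, Category.comp_id]
        rw [this]; infer_instance
      exact (cancel_epi (((epsK K X).rightDerived 0).map S.g)).1 (by rw [comp_zero]; exact w₂)
    · exact ((isZero_rightDerived_piK hv (ih k k.lt_succ_self F₁ hF₁)).of_iso
        (((epsK K X).rightDerived (k + 1)).mapIso e₃).symm).eq_of_src _ _
  haveI : Mono (((epsK K X).rightDerived (m + 1)).map S.f) := h₃.mono_g hδ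
  have h : jMor hv p φ = e₁.inv ≫ S.f ≫ e₂.hom :=
    ((congrArg (e₁.inv ≫ ·) ((congrArg (· ≫ e₂.hom) hf).trans ((Category.assoc _ _ _).trans
      (congrArg (e₁.hom ≫ ·) ((Category.assoc _ _ _).trans
        ((congrArg (jMor hv p φ ≫ ·) e₂.inv_hom_id).trans (Category.comp_id _))))))).trans
          (e₁.inv_hom_id_assoc _)).symm
  rw [h, Functor.map_comp, Functor.map_comp]
  infer_instance

omit [Surjective p] in
/-- Exactness of direct images and lifting of boundaries. -/
theorem push_facts (m : ℕ) (ih : ∀ k < m, ∀ (X : Scheme.{u}) (F : EtCoh.Ab X), EtCoh.IsTorsion F → Acy hv k X F)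
    (hle : Scheme.etalePrecoverage ≤ K) (J : EtCoh.Ab Y) [Injective J]
    (L : InjectiveResolution (piK hv (torsEnv J))) :
    (∀ k, k < m →
      (scAt (((BigSite.pushBig K p AddCommGrpCat.{u + 1}).mapHomologicalComplex (ComplexShape.up ℕ)).obj L.cocomplex) k).Exact) ∧
    ∀ (U : Over X) (z : (L.cocomplex.X (m + 1)).obj.obj (op ((Over.pullback p).obj U))),
      Presheaf.imageSieve (L.cocomplex.d m (m + 1)).hom z ∈
          QuotSh.J Scheme.etalePrecoverage Y ((Over.pullback p).obj U) →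
      Presheaf.imageSieve ((BigSite.pushBig K p AddCommGrpCat.{u + 1}).map (L.cocomplex.d m (m + 1))).hom z ∈
          QuotSh.J Scheme.etalePrecoverage X U := by
  let P := BigSite.pushBig Scheme.etalePrecoverage p AddCommGrpCat.{u + 1}
  haveI : P.IsRightAdjoint := (BigSite.bigAdj Scheme.etalePrecoverage p AddCommGrpCat.{u + 1}).isRightAdjoint
  haveI : PreservesFiniteLimits P := ⟨fun _ => inferInstance⟩
  let ε := epsK K Y
  let εL := (ε.mapHomologicalComplex (ComplexShape.up ℕ)).obj L.cocomplex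
  let ι : ε.obj (piK hv (torsEnv J)) ⟶ εL.X 0 := ε.map (L.ι.f 0)
  haveI : Mono (L.ι.f 0) := inferInstance
  haveI : Mono ι := ε.map_mono _
  have hι : ι ≫ εL.d 0 1 = 0 :=
    (ε.map_comp _ _).symm.trans ((congrArg ε.map L.ι_f_zero_comp_complex_d).trans (ε.map_zero _ _))
  have h₀ : (ShortComplex.mk ι (εL.d 0 1) hι).Exact :=
    ShortComplex.exact_of_f_is_kernel _ (KernelFork.mapIsLimit _ L.isLimitKernelFork ε)
  have hA : TriCat.IsRightAcyclic P (ε.obj (piK hv (torsEnv J))) := isRightAcyclic_pushBig_torsEnv p J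
  have hL : ∀ i, TriCat.IsRightAcyclic P (εL.X i) := fun i =>
    haveI : Injective (L.cocomplex.X i) := L.injective i
    haveI : Injective (εL.X i) := ε.injective_obj _
    TriCat.isRightAcyclic_of_injective _
  have hex : ∀ k < m, (sc εL k).Exact := fun k hk => ih k hk Y _ (isTorsion_torsEnv J) L
  refine ⟨fun k hk => exact_of_eps hle ?_, fun U z hz => ?_⟩
  · have h := exact_map P εL ι hι h₀ hA hL (k := k) fun i hi => hex i (lt_of_le_of_lt hi hk)
    exact h
  · haveI := epi_map_factorThruImage P εL ι hι h₀ hA hL hex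
    let d : εL.X m ⟶ εL.X (m + 1) := εL.d m (m + 1)
    have h0 : (cokernel.π d).hom.app (op ((Over.pullback p).obj U)) z = 0 := by
      refine ((isSheaf_iff_isSheaf_of_type _ _).1
        ((Presheaf.isSheaf_iff_isSheaf_forget _ _ (forget AddCommGrpCat.{u + 1})).1 (cokernel d).property)
        _ hz).isSeparatedFor.ext fun W k ⟨w, hw⟩ => ?_
      show (cokernel d).obj.map k.op ((cokernel.π d).hom.app _ z) = (cokernel d).obj.map k.op 0
      refine ((ConcreteCategory.congr_hom ((cokernel.π d).hom.naturality k.op) z).symm).trans ?_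
      refine Eq.trans ?_ (map_zero _).symm
      refine (congrArg ((cokernel.π d).hom.app (op W)) hw.symm).trans ?_
      exact (ConcreteCategory.comp_apply _ _ w).symm.trans
        (congrArg (fun t => t.hom.app (op W) w) (cokernel.condition d))
    obtain ⟨c, hc⟩ := exists_kernel_section (cokernel.π d) z h0
    haveI := (Sheaf.isLocallySurjective_iff_epi' AddCommGrpCat.{u + 1}
      (P.map (Abelian.factorThruImage d))).2 inferInstance
    refine GrothendieckTopology.superset_covering _ ?_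
      (Presheaf.imageSieve_mem (QuotSh.J Scheme.etalePrecoverage X) (P.map (Abelian.factorThruImage d)).hom
        (show (P.obj (Abelian.image d)).obj.obj (op U) from c))
    rintro V k ⟨w, hw⟩
    refine ⟨w, ?_⟩
    have h1 : d.hom.app (op ((Over.pullback p).obj V)) w =
        (Abelian.image.ι d).hom.app _ ((Abelian.factorThruImage d).hom.app (op ((Over.pullback p).obj V)) w) :=
      (congrArg (fun t => t.hom.app (op ((Over.pullback p).obj V)) w) (Abelian.image.fac d).symm).trans
        (ConcreteCategory.comp_apply _ _ w)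
    refine h1.trans ((congrArg _ hw).trans ?_)
    exact (ConcreteCategory.congr_hom ((Abelian.image.ι d).hom.naturality ((Over.pullback p).map k).op) c).trans
      (congrArg ((εL.X (m + 1)).obj.map ((Over.pullback p).map k).op) hc)

/-- Cocycles which are locally coboundaries on a proper surjective cover are locally coboundaries. -/
theorem boundary_of_proper (m : ℕ)
    (ih : ∀ k < m, ∀ (X : Scheme.{u}) (F : EtCoh.Ab X), EtCoh.IsTorsion F → Acy hv k X F)
    (hle : Scheme.etalePrecoverage ≤ K) {F : EtCoh.Ab X} (hF : EtCoh.IsTorsion F) (I : InjectiveResolution (piK hv F))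
    (U : Over X) (x : (I.cocomplex.X (m + 1)).obj.obj (op U))
    (hx : (I.cocomplex.d (m + 1) (m + 2)).hom.app (op U) x = 0)
    (hy : Presheaf.imageSieve ((BigSite.pullBig K p AddCommGrpCat.{u + 1}).map (I.cocomplex.d m (m + 1))).hom
        ((I.cocomplex.X (m + 1)).obj.map ((Over.mapPullbackAdj p).counit.app U).op x) ∈
      QuotSh.J Scheme.etalePrecoverage Y ((Over.pullback p).obj U)) :
    Presheaf.imageSieve (I.cocomplex.d m (m + 1)).hom x ∈ QuotSh.J Scheme.etalePrecoverage X U := by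
  obtain ⟨φ, hφ⟩ := exists_mono_torsEnv (isTorsion_pull p hF)
  haveI := hφ
  let G := torsEnv (Injective.under ((EtCoh.pull p).obj F))
  have hG : EtCoh.IsTorsion G := isTorsion_torsEnv _
  let L := injectiveResolution (piK hv G)
  let pl := BigSite.pullBig K p AddCommGrpCat.{u + 1}
  let Φ := BigSite.pushBig K p AddCommGrpCat.{u + 1}
  haveI : Φ.IsRightAdjoint := (BigSite.bigAdj K p AddCommGrpCat.{u + 1}).isRightAdjoint
  haveI : PreservesFiniteLimits Φ := ⟨fun _ => inferInstance⟩
  let adj := BigSite.bigAdj K p AddCommGrpCat.{u + 1}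
  let b : pl.obj (piK hv F) ⟶ piK hv G := (piKPullIso hv p F).inv ≫ piKMap hv φ
  let pI := SiteBase.mapResolution pl I
  let ψ : (pl.mapHomologicalComplex (ComplexShape.up ℕ)).obj I.cocomplex ⟶ L.cocomplex :=
    InjectiveResolution.desc b L pI
  let j : piK hv F ⟶ Φ.obj (piK hv G) := adj.unit.app (piK hv F) ≫ Φ.map b
  let J := injectiveResolution (Φ.obj (piK hv G))
  let φJ := InjectiveResolution.desc j J I
  let Kc := (Φ.mapHomologicalComplex (ComplexShape.up ℕ)).obj L.cocomplex
  let η : I.cocomplex ⟶ Kc :=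
    { f := fun i => adj.unit.app (I.cocomplex.X i) ≫ Φ.map (ψ.f i)
      comm' := fun i k _ => by
        show (adj.unit.app (I.cocomplex.X i) ≫ Φ.map (ψ.f i)) ≫ Φ.map (L.cocomplex.d i k) =
          I.cocomplex.d i k ≫ adj.unit.app (I.cocomplex.X k) ≫ Φ.map (ψ.f k)
        have hn : I.cocomplex.d i k ≫ adj.unit.app (I.cocomplex.X k) =
            adj.unit.app (I.cocomplex.X i) ≫ Φ.map (pl.map (I.cocomplex.d i k)) := adj.unit.naturality _
        refine (Category.assoc _ _ _).trans (Eq.trans ?_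
          (((congrArg (· ≫ Φ.map (ψ.f k)) hn).trans (Category.assoc _ _ _)).symm.trans (Category.assoc _ _ _)))
        rw [← Φ.map_comp, ← Φ.map_comp]
        exact congrArg (fun t => adj.unit.app (I.cocomplex.X i) ≫ Φ.map t) (ψ.comm i k) }
  let iI : piK hv F ⟶ I.cocomplex.X 0 := I.ι.f 0
  let iL : piK hv G ⟶ L.cocomplex.X 0 := L.ι.f 0
  have hψ0 : pl.map iI ≫ ψ.f 0 = b ≫ iL := by
    refine Eq.trans ?_ (InjectiveResolution.desc_commutes_zero b L pI)
    simp [pI, iI, SiteBase.mapResolution_ι_f_zero]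
    rfl
  have hη : iI ≫ η.f 0 = j ≫ Φ.map iL := by
    have hn : iI ≫ adj.unit.app (I.cocomplex.X 0) = adj.unit.app (piK hv F) ≫ Φ.map (pl.map iI) :=
      adj.unit.naturality _
    show iI ≫ adj.unit.app (I.cocomplex.X 0) ≫ Φ.map (ψ.f 0) = (adj.unit.app (piK hv F) ≫ Φ.map b) ≫ Φ.map iL
    refine (Category.assoc _ _ _).symm.trans ((congrArg (· ≫ Φ.map (ψ.f 0)) hn).trans ?_)
    rw [Category.assoc, Category.assoc, ← Φ.map_comp, ← Φ.map_comp, hψ0]
  have hιd : Φ.map iL ≫ Kc.d 0 1 = 0 :=
    (Φ.map_comp iL (L.cocomplex.d 0 1)).symm.trans ((congrArg Φ.map L.ι_f_zero_comp_complex_d).trans (Φ.map_zero _ _))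
  obtain ⟨hK, hlift⟩ := push_facts hv p m ih hle (Injective.under ((EtCoh.pull p).obj F)) L
  have h₀ : (ShortComplex.mk (Φ.map iL) (Kc.d 0 1) hιd).Exact :=
    ShortComplex.exact_of_f_is_kernel _ (KernelFork.mapIsLimit _ L.isLimitKernelFork Φ)
  haveI : Mono iL := inferInstanceAs (Mono (L.ι.f 0))
  let ιK : Φ.obj (piK hv G) ⟶ Kc.X 0 := Φ.map iL
  haveI : Mono ιK := Φ.map_mono iL
  -- lift the class etale locally
  let x₁ := (I.cocomplex.X (m + 1)).obj.map ((Over.mapPullbackAdj p).counit.app U).op x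
  let z : (L.cocomplex.X (m + 1)).obj.obj (op ((Over.pullback p).obj U)) :=
    (ψ.f (m + 1)).hom.app (op ((Over.pullback p).obj U)) x₁
  have hz : Presheaf.imageSieve (L.cocomplex.d m (m + 1)).hom z ∈
      QuotSh.J Scheme.etalePrecoverage Y ((Over.pullback p).obj U) := by
    refine GrothendieckTopology.superset_covering _ ?_ hy
    rintro V k ⟨w, hw⟩
    refine ⟨(ψ.f m).hom.app (op V) w, ?_⟩
    have hc : (L.cocomplex.d m (m + 1)).hom.app (op V) ((ψ.f m).hom.app (op V) w) =
        (ψ.f (m + 1)).hom.app (op V) ((pl.map (I.cocomplex.d m (m + 1))).hom.app (op V) w) :=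
      ((ConcreteCategory.comp_apply _ _ w).symm.trans
        (congrArg (fun t => t.hom.app (op V) w) (ψ.comm m (m + 1)))).trans (ConcreteCategory.comp_apply _ _ w)
    refine hc.trans ((congrArg _ hw).trans ?_)
    exact ConcreteCategory.congr_hom ((ψ.f (m + 1)).hom.naturality k.op) x₁
  refine GrothendieckTopology.transitive _ (hlift U z hz) _ ?_
  rintro U' k ⟨y, hy'⟩
  -- the class on the member of the covering
  let x' := (I.cocomplex.X (m + 1)).obj.map k.op x
  have hx' : (I.cocomplex.d (m + 1) (m + 2)).hom.app (op U') x' = 0 :=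
    (ConcreteCategory.congr_hom ((I.cocomplex.d (m + 1) (m + 2)).hom.naturality k.op) x).trans
      ((congrArg ((I.cocomplex.X (m + 2)).obj.map k.op) hx).trans (map_zero ((I.cocomplex.X (m + 2)).obj.map k.op).hom))
  have hη' : (η.f (m + 1)).hom.app (op U') x' = (Kc.d m (m + 1)).hom.app (op U') y := by
    refine Eq.trans ?_ hy'.symm
    exact (ConcreteCategory.congr_hom ((η.f (m + 1)).hom.naturality k.op) x)
  let g₁ : I.cocomplex.X (m + 1) ⊞ Kc.X m ⟶ I.cocomplex.X (m + 2) := biprod.fst ≫ I.cocomplex.d (m + 1) (m + 2)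
  let g₂ : kernel g₁ ⟶ Kc.X (m + 1) := kernel.ι g₁ ≫ (biprod.fst ≫ η.f (m + 1) - biprod.snd ≫ Kc.d m (m + 1))
  let sA : kernel g₂ ⟶ I.cocomplex.X (m + 1) := kernel.ι g₂ ≫ kernel.ι g₁ ≫ biprod.fst
  let tA : kernel g₂ ⟶ Kc.X m := kernel.ι g₂ ≫ kernel.ι g₁ ≫ biprod.snd
  have hs : sA ≫ I.cocomplex.d (m + 1) (m + 2) = 0 := by
    simp only [sA, Category.assoc]
    rw [show kernel.ι g₁ ≫ biprod.fst ≫ I.cocomplex.d (m + 1) (m + 2) = 0 from kernel.condition g₁, comp_zero]
  have ht : sA ≫ η.f (m + 1) = tA ≫ Kc.d m (m + 1) := by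
    have h := kernel.condition g₂
    simp only [g₂, Preadditive.comp_sub, sub_eq_zero] at h
    simpa only [sA, tA, Category.assoc] using h
  obtain ⟨r, hr⟩ := exists_coboundary I J j φJ (InjectiveResolution.desc_commutes_zero _ _ _) Kc ιK η
    hη hιd h₀ m hK sA hs tA ht
  let ε := epsK K X
  haveI := mono_rightDerived_jMor hv p φ hG hle m fun k hk => ih k hk X
  haveI hmono : Mono ((ε.mapHomologicalComplex (ComplexShape.up ℕ) ⋙ HomologicalComplex.homologyFunctor _ _ (m + 1)).map φJ) := by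
    have h := InjectiveResolution.isoRightDerivedObj_hom_naturality j I J φJ (InjectiveResolution.desc_commutes_zero _ _ _) ε (m + 1)
    have h' : (ε.mapHomologicalComplex (ComplexShape.up ℕ) ⋙ HomologicalComplex.homologyFunctor _ _ (m + 1)).map φJ =
        (I.isoRightDerivedObj ε (m + 1)).inv ≫ (ε.rightDerived (m + 1)).map j ≫ (J.isoRightDerivedObj ε (m + 1)).hom := by
      rw [h, Iso.inv_hom_id_assoc]
    rw [h']
    haveI : Mono ((ε.rightDerived (m + 1)).map j) := this
    infer_instance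
  let εI := (ε.mapHomologicalComplex (ComplexShape.up ℕ)).obj I.cocomplex
  let εJ := (ε.mapHomologicalComplex (ComplexShape.up ℕ)).obj J.cocomplex
  let εφ : εI ⟶ εJ := (ε.mapHomologicalComplex (ComplexShape.up ℕ)).map φJ
  have hs' : ε.map sA ≫ εI.d (m + 1) (m + 2) = 0 :=
    (ε.map_comp _ _).symm.trans ((congrArg ε.map hs).trans (ε.map_zero _ _))
  have hzero : εI.liftCycles (ε.map sA) (m + 2) (by simp) hs' ≫ εI.homologyπ (m + 1) = 0 := by
    haveI : Mono (HomologicalComplex.homologyMap εφ (m + 1)) := hmono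
    refine (cancel_mono (HomologicalComplex.homologyMap εφ (m + 1))).1 ?_
    rw [zero_comp, Category.assoc, HomologicalComplex.homologyπ_naturality, ← Category.assoc,
      HomologicalComplex.liftCycles_comp_cyclesMap]
    refine (εJ.liftCycles_comp_homologyπ_eq_zero_iff_up_to_refinements m (m + 1) (m + 2) (by simp) (by simp) _ _).2
      ⟨_, 𝟙 _, inferInstance, ε.map r, ?_⟩
    rw [Category.id_comp]
    exact ((ε.map_comp _ _).symm.trans (congrArg ε.map hr)).trans (ε.map_comp _ _)
  obtain ⟨A', π, hπ, w, hw⟩ :=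
    (εI.liftCycles_comp_homologyπ_eq_zero_iff_up_to_refinements m (m + 1) (m + 2) (by simp) (by simp) _ hs').1 hzero
  let bb : (I.cocomplex.X (m + 1) ⊞ Kc.X m).obj.obj (op U') :=
    (biprod.inl : _ ⟶ I.cocomplex.X (m + 1) ⊞ Kc.X m).hom.app (op U') x' +
      (biprod.inr : _ ⟶ I.cocomplex.X (m + 1) ⊞ Kc.X m).hom.app (op U') y
  have happ : ∀ {A B D : BigSite.Ab K X} (f : A ⟶ B) (g : B ⟶ D) (a : A.obj.obj (op U')),
      g.hom.app (op U') (f.hom.app (op U') a) = (f ≫ g).hom.app (op U') a := fun f g a =>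
    (ConcreteCategory.comp_apply _ _ a).symm
  have hb₁ : (biprod.fst : I.cocomplex.X (m + 1) ⊞ Kc.X m ⟶ _).hom.app (op U') bb = x' := by
    simp only [bb, map_add, happ, biprod.inl_fst, biprod.inr_fst]
    exact add_zero x'
  have hb₂ : (biprod.snd : I.cocomplex.X (m + 1) ⊞ Kc.X m ⟶ _).hom.app (op U') bb = y := by
    simp only [bb, map_add, happ, biprod.inl_snd, biprod.inr_snd]
    exact zero_add y
  obtain ⟨c, hc⟩ := exists_kernel_section g₁ bb ((happ _ _ bb).symm.trans ((congrArg _ hb₁).trans hx'))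
  obtain ⟨a, ha⟩ := exists_kernel_section g₂ c (by
    refine (happ _ _ c).symm.trans ((congrArg _ hc).trans ?_)
    show (biprod.fst ≫ η.f (m + 1)).hom.app (op U') bb - (biprod.snd ≫ Kc.d m (m + 1)).hom.app (op U') bb = 0
    rw [← happ biprod.fst (η.f (m + 1)), ← happ biprod.snd (Kc.d m (m + 1)), hb₁, hb₂]
    exact sub_eq_zero.2 hη')
  have hsa : sA.hom.app (op U') a = x' := by
    simp only [sA, ← happ]
    rw [ha, hc, hb₁]
  haveI := (Sheaf.isLocallySurjective_iff_epi' AddCommGrpCat.{u + 1} π).2 hπ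
  refine GrothendieckTopology.superset_covering _ ?_ (Presheaf.imageSieve_mem (QuotSh.J Scheme.etalePrecoverage X) π.hom a)
  rintro V k' ⟨a', ha'⟩
  refine ⟨w.hom.app (op V) a', ?_⟩
  have h1 : (εI.d m (m + 1)).hom.app (op V) (w.hom.app (op V) a') = (ε.map sA).hom.app (op V) (π.hom.app (op V) a') :=
    ((ConcreteCategory.comp_apply _ _ a').symm.trans (congrArg (fun t => t.hom.app (op V) a') hw.symm)).trans
      (ConcreteCategory.comp_apply _ _ a')
  refine h1.trans ((congrArg _ ha').trans ?_)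
  refine (ConcreteCategory.congr_hom (sA.hom.naturality k'.op) a).trans
    ((congrArg ((I.cocomplex.X (m + 1)).obj.map k'.op) hsa).trans ?_)
  exact (EtInd.mapP (P := (I.cocomplex.X (m + 1)).obj ⋙ forget _) k' k x)

end Proper

/-- Covering sieves are refined Zariski locally on a proper surjective cover. -/
def Refines (K : Precoverage Scheme.{u}) : Prop :=
  ∀ ⦃T : Scheme.{u}⦄ (R : Sieve T), R ∈ K.toGrothendieck T → ∀ t : T, ∃ (U Y : Scheme.{u}) (g : U ⟶ T) (p : Y ⟶ U),
    Etale g ∧ t ∈ Set.range g ∧ IsProper p ∧ Surjective p ∧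
      ∀ y : Y, ∃ (W : Scheme.{u}) (ι : W ⟶ Y), IsOpenImmersion ι ∧ y ∈ Set.range ι ∧ R (ι ≫ p ≫ g)

theorem acy (hle : Scheme.etalePrecoverage ≤ K) (hr : Refines K) (m : ℕ) :
    ∀ (X : Scheme.{u}) (F : EtCoh.Ab X), EtCoh.IsTorsion F → Acy hv m X F := by
  induction m using Nat.strong_induction_on with
  | _ m ih =>
  intro X F hF I
  refine exact_of_locally_boundary fun T x hx => ?_
  have hfl := locally_boundary (scAt_of_exactAt I.cocomplex m (RDer.res_exactAt_succ I.cocomplex I.ι m)) x hx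
  have hpt := hr _ ((GrothendieckTopology.mem_over_iff _ _).1 hfl)
  choose U Z g p hg hu hp hps hW using hpt
  let a := fun t => g t ≫ T.hom
  let o := fun t => (Over.map (a t)).obj (Over.mk (𝟙 (U t)))
  let k : ∀ t, o t ⟶ T := fun t => Over.homMk (g t) (Category.id_comp _).symm
  refine GrothendieckTopology.transitive _ (EtInd.ofArrows_mem_et o k hg fun t => ⟨t, hu t⟩) _ ?_
  rintro V f ⟨_, c, _, ⟨t⟩, rfl⟩
  rw [Sieve.pullback_comp]
  refine GrothendieckTopology.pullback_stable _ c ?_
  haveI := hp t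
  haveI := hps t
  choose W ι hι hy hR using hW t
  let x' : (I.cocomplex.X (m + 1)).obj.obj (op (o t)) := (I.cocomplex.X (m + 1)).obj.map (k t).op x
  have hnat : ∀ {q q' : ℕ} {V V' : Over X} (f : V ⟶ V') (z : (I.cocomplex.X q).obj.obj (op V')),
      (I.cocomplex.d q q').hom.app (op V) ((I.cocomplex.X q).obj.map f.op z) =
        (I.cocomplex.X q').obj.map f.op ((I.cocomplex.d q q').hom.app (op V') z) := fun f z =>
    ConcreteCategory.congr_hom ((I.cocomplex.d _ _).hom.naturality f.op) z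
  let aI := SiteBase.mapResolution (BigSite.pullBig K (a t) AddCommGrpCat.{u + 1}) I
  let Ia : InjectiveResolution (piK hv ((EtCoh.pull (a t)).obj F)) :=
    BigSiteLib.FppfDesc.transportRes (piKPullIso hv (a t) F) aI
  let U₁ : Over (U t) := Over.mk (𝟙 (U t))
  let pU := (Over.pullback (p t)).obj U₁
  let o' : Z t → Over (Z t) := fun y => Over.mk (ι y)
  let k' : ∀ y, o' y ⟶ pU := fun y => Over.homMk (pullback.lift (ι y ≫ p t) (ι y) (Category.comp_id _))
    (pullback.lift_snd _ _ _)
  have hsnd : IsIso (pullback.snd (𝟙 (U t)) (p t)) := inferInstance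
  have hk' : ∀ y, (k' y).left = ι y ≫ inv (pullback.snd (𝟙 (U t)) (p t)) := fun y => by
    rw [IsIso.eq_comp_inv]; exact pullback.lift_snd _ _ _
  have hcov : Sieve.ofArrows o' k' ∈ QuotSh.J Scheme.etalePrecoverage (Z t) pU := by
    refine EtInd.ofArrows_mem_et o' k' (fun y => ?_) fun z => ?_
    · haveI := hι y
      rw [hk' y]; infer_instance
    · obtain ⟨w, hw⟩ := hy (pullback.snd (𝟙 (U t)) (p t) z)
      refine ⟨pullback.snd (𝟙 (U t)) (p t) z, w, ?_⟩
      rw [hk']
      refine (congrArg (inv (pullback.snd (𝟙 (U t)) (p t))) hw).trans ?_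
      rw [← Scheme.Hom.comp_apply, IsIso.hom_inv_id]
      rfl
  have hres := boundary_of_proper hv (p t) m ih hle (isTorsion_pull (a t) hF) Ia U₁ x'
    ((hnat (k t) x).trans ((congrArg _ hx).trans (map_zero _))) (by
      refine GrothendieckTopology.superset_covering _ ?_ hcov
      rintro V q ⟨_, c', _, ⟨y⟩, rfl⟩
      refine Sieve.downward_closed _ ?_ c'
      let cc : (Over.map (a t)).obj ((Over.map (p t)).obj (o' y)) ⟶ o t := (Over.map (a t)).map
        ((Over.map (p t)).map (k' y) ≫ (Over.mapPullbackAdj (p t)).counit.app U₁)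
      obtain ⟨w, hw⟩ : Presheaf.imageSieve (I.cocomplex.d m (m + 1)).hom x (cc ≫ k t) := by
        have h0 := (Sieve.overEquiv_iff _ (ι y ≫ p t ≫ g t)).1 (hR y)
        have hW' : cc ≫ k t = Over.homMk (𝟙 (W y)) (by
            show 𝟙 (W y) ≫ (ι y ≫ p t ≫ g t) ≫ T.hom = (ι y ≫ p t) ≫ g t ≫ T.hom
            simp only [Category.id_comp, Category.assoc]) ≫
            (Over.homMk (ι y ≫ p t ≫ g t) : Over.mk ((ι y ≫ p t ≫ g t) ≫ T.hom) ⟶ T) :=
          Over.OverMorphism.ext (by
            show ((pullback.lift (ι y ≫ p t) (ι y) (Category.comp_id _)) ≫ pullback.fst (𝟙 (U t)) (p t)) ≫ g t =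
              𝟙 (W y) ≫ ι y ≫ p t ≫ g t
            rw [pullback.lift_fst, Category.assoc, Category.id_comp])
        rw [hW']
        exact Sieve.downward_closed _ h0 _
      refine ⟨w, hw.trans ?_⟩
      refine (EtInd.mapP (P := (I.cocomplex.X (m + 1)).obj ⋙ forget _) cc (k t) x).symm.trans ?_
      exact (EtInd.mapP (P := (I.cocomplex.X (m + 1)).obj ⋙ forget _)
        ((Over.map (a t)).map ((Over.map (p t)).map (k' y)))
        ((Over.map (a t)).map ((Over.mapPullbackAdj (p t)).counit.app U₁)) x').symm.trans rfl)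
  rw [GrothendieckTopology.mem_over_iff] at hres ⊢
  refine GrothendieckTopology.superset_covering _ ?_ hres
  intro V' f' hf'
  obtain ⟨z, hz⟩ := (Sieve.overEquiv_iff (Y := Over.mk (𝟙 (U t))) _ f').1 hf'
  refine (Sieve.overEquiv_iff _ f').2 ?_
  let e : Over.mk (f' ≫ (o t).hom) ⟶ (Over.map (a t)).obj (Over.mk (f' ≫ 𝟙 (U t))) :=
    Over.homMk (𝟙 _) ((Category.id_comp _).trans (Category.assoc _ _ _))
  have hf : (Over.homMk f' : Over.mk (f' ≫ (o t).hom) ⟶ o t) =
      e ≫ (Over.map (a t)).map (Over.homMk f' : Over.mk (f' ≫ 𝟙 (U t)) ⟶ Over.mk (𝟙 (U t))) :=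
    Over.OverMorphism.ext (Category.id_comp _).symm
  rw [hf]
  refine Sieve.downward_closed _ ?_ _
  show Presheaf.imageSieve (I.cocomplex.d m (m + 1)).hom x
    ((Over.map (a t)).map (Over.homMk f' : Over.mk (f' ≫ 𝟙 (U t)) ⟶ Over.mk (𝟙 (U t))) ≫ k t)
  exact ⟨z, hz.trans (EtInd.mapP (P := (I.cocomplex.X (m + 1)).obj ⋙ forget _) _ (k t) x)⟩

end Groth.Agent.GabberAff13.BigDesc
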