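import Groth.Agent.TriCat.AcyclicObj

/-!
# Cycles of a complex of acyclic objects
-/

set_option autoImplicit false
set_option linter.style.haveILetI false

universe v₁ v₂ u₁ u₂

open CategoryTheory CategoryTheory.Limits

namespace Groth.Agent.GabberAff13.BigDesc

open Groth.Agent.TriCat

variable {C : Type u₁} [Category.{v₁} C] [Abelian C] [EnoughInjectives C]
  {D : Type u₂} [Category.{v₂} D] [Abelian D]
  (F : C ⥤ D) [F.Additive] [PreservesFiniteLimits F] (L : CochainComplex C ℕ)
  {A : C} (ι : A ⟶ L.X 0) (hι : ι ≫ L.d 0 1 = 0)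

/-- A piece of a complex. -/
abbrev sc (m : ℕ) : ShortComplex C := ShortComplex.mk (L.d m (m + 1)) (L.d (m + 1) (m + 2)) (L.d_comp_d _ _ _)

/-- The sequence of cycles. -/
noncomputable abbrev cycSeq (k : ℕ) : ShortComplex C :=
  ShortComplex.mk (kernel.ι (L.d k (k + 1))) (kernel.lift (L.d (k + 1) (k + 2)) (L.d k (k + 1)) (L.d_comp_d _ _ _))
    (by ext; simp)

omit [EnoughInjectives C] in
theorem cycSeq_shortExact (k : ℕ) (h : (sc L k).Exact) : (cycSeq L k).ShortExact := by
  haveI : Epi (cycSeq L k).g := (ShortComplex.exact_iff_epi_kernel_lift _).1 h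
  refine ShortComplex.ShortExact.mk' ?_ inferInstance inferInstance
  refine ShortComplex.exact_of_f_is_kernel _ ?_
  exact KernelFork.IsLimit.ofι (kernel.ι (L.d k (k + 1))) _
    (fun g hg => kernel.lift _ g (by
      have := congrArg (· ≫ kernel.ι (L.d (k + 1) (k + 2))) hg
      simpa using this))
    (fun g hg => kernel.lift_ι _ _ _)
    (fun g hg m hm => by ext; simp [hm])

variable [Mono ι] (h₀ : (ShortComplex.mk ι (L.d 0 1) hι).Exact) (hA : IsRightAcyclic F A)
  (hL : ∀ i, IsRightAcyclic F (L.X i))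

include h₀ hA hL in
theorem isRightAcyclic_cycles : ∀ k, (∀ i < k, (sc L i).Exact) → IsRightAcyclic F (kernel (L.d k (k + 1)))
  | 0, _ => fun i hi => (hA i hi).of_iso
      ((F.rightDerived i).mapIso (IsLimit.conePointUniqueUpToIso h₀.fIsKernel (kernelIsKernel (L.d 0 1))).symm)
  | k + 1, h => acyclic₃ (cycSeq_shortExact L k (h k k.lt_succ_self))
      (isRightAcyclic_cycles k fun i hi => h i (Nat.lt_succ_of_lt hi)) (hL k)

include h₀ hA hL in
theorem exact_map {k : ℕ} (h : ∀ i ≤ k, (sc L i).Exact) : ((sc L k).map F).Exact := by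
  have hS := cycSeq_shortExact L k (h k le_rfl)
  have hZ := isRightAcyclic_cycles F L ι hι h₀ hA hL k fun i hi => h i hi.le
  have hSF : ((cycSeq L k).map F).ShortExact := shortExact_map_of_subsingleton hS (hZ 1 one_pos)
  haveI : Epi (F.map (cycSeq L k).g) := hSF.epi_g
  have hex : ((ShortComplex.mk (kernel.ι (L.d (k + 1) (k + 2))) (L.d (k + 1) (k + 2)) (kernel.condition _)).map F).Exact :=
    ShortComplex.exact_of_f_is_kernel _ (KernelFork.mapIsLimit _ (kernelIsKernel _) F)
  let φ : (sc L k).map F ⟶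
      (ShortComplex.mk (kernel.ι (L.d (k + 1) (k + 2))) (L.d (k + 1) (k + 2)) (kernel.condition _)).map F :=
    { τ₁ := F.map (cycSeq L k).g, τ₂ := 𝟙 _, τ₃ := 𝟙 _
      comm₁₂ := by
        show F.map (cycSeq L k).g ≫ F.map (kernel.ι (L.d (k + 1) (k + 2))) = F.map (L.d k (k + 1)) ≫ 𝟙 _
        rw [← F.map_comp, Category.comp_id]
        congr 1
        exact kernel.lift_ι _ _ _
      comm₂₃ := (Category.id_comp _).trans (Category.comp_id _).symm }
  haveI : Epi φ.τ₁ := inferInstanceAs (Epi (F.map (cycSeq L k).g))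
  haveI : IsIso φ.τ₂ := inferInstanceAs (IsIso (𝟙 _))
  haveI : Mono φ.τ₃ := inferInstanceAs (Mono (𝟙 _))
  exact (ShortComplex.exact_iff_of_epi_of_isIso_of_mono φ).2 hex

include h₀ hA hL in
theorem epi_map_factorThruImage {m : ℕ} (h : ∀ i < m, (sc L i).Exact) :
    Epi (F.map (Abelian.factorThruImage (L.d m (m + 1)))) := by
  let S : ShortComplex C := ShortComplex.mk (kernel.ι (L.d m (m + 1))) (Abelian.factorThruImage (L.d m (m + 1)))
    ((cancel_mono (Abelian.image.ι (L.d m (m + 1)))).1 (by simp))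
  have hS : S.ShortExact := by
    refine ShortComplex.ShortExact.mk' ?_ inferInstance inferInstance
    refine ShortComplex.exact_of_f_is_kernel _ ?_
    exact KernelFork.IsLimit.ofι (kernel.ι (L.d m (m + 1))) _
      (fun g hg => kernel.lift _ g (by
        have h2 : g ≫ Abelian.factorThruImage (L.d m (m + 1)) = 0 := hg
        rw [← Abelian.image.fac (L.d m (m + 1)), ← Category.assoc, h2, zero_comp]))
      (fun g hg => kernel.lift_ι _ _ _)
      (fun g hg m hm => by ext; simp [hm])
  exact (shortExact_map_of_subsingleton hS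
    (isRightAcyclic_cycles F L ι hι h₀ hA hL m h 1 one_pos)).epi_g

end Groth.Agent.GabberAff13.BigDesc
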