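import Groth.Agent.GabberAff13.BigDesc.Refine
import Groth.Agent.BigSiteLib.FppfDesc.Descent

/-!
# Cohomological descent of torsion sheaves from fine topologies to the small etale site
-/

set_option autoImplicit false
set_option linter.style.haveILetI false
set_option linter.unusedSectionVars false
set_option backward.isDefEq.respectTransparency.types false

universe u

open CategoryTheory CategoryTheory.Limits AlgebraicGeometry Opposite CategoryTheory.Abelian

namespace Groth.Agent.GabberAff13.BigDesc

open Groth.Agent.BigSiteLib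

variable {K : Precoverage Scheme.{u}} (hle : Scheme.etalePrecoverage ≤ K) (hv : RefinedByV K) (hr : Refines K)
  {X : Scheme.{u}} [BigSite.AEtCont K X]

/-- The canonical map to the pullback to the big etale site. -/
noncomputable def genHom (F : EtCoh.Ab X) : (BigSite.piEtPull K X).obj F ⟶ piK hv F :=
  ((BigSite.piEtAdj K X).homEquiv F (piK hv F)).symm
    (ObjectProperty.homMk ((BigSite.piEtAdj Scheme.etalePrecoverage X).unit.app F).hom)

theorem unit_genHom (F : EtCoh.Ab X) :
    (BigSite.piEtAdj K X).unit.app F ≫ (BigSite.resEt K X).map (genHom hv F) =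
      ObjectProperty.homMk ((BigSite.piEtAdj Scheme.etalePrecoverage X).unit.app F).hom := by
  have h := ((BigSite.piEtAdj K X).homEquiv F (piK hv F)).apply_symm_apply
    (ObjectProperty.homMk ((BigSite.piEtAdj Scheme.etalePrecoverage X).unit.app F).hom)
  rw [Adjunction.homEquiv_unit] at h
  exact h

include hle in
theorem isIso_genHom (F : EtCoh.Ab X) : IsIso (genHom hv F) := by
  let S := X
  let J := QuotSh.J K S
  have hs := isSheaf_piPull F hv
  have hle : QuotSh.J Scheme.etalePrecoverage S ≤ J := J_etale_le hle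
  show IsIso ((((EtFppf.a S).sheafAdjunctionContinuous AddCommGrpCat.{u + 1} S.smallEtaleTopology J).homEquiv F
    (piK hv F)).symm (ObjectProperty.homMk ((BigSite.piEtAdj Scheme.etalePrecoverage S).unit.app F).hom))
  let π : Sheaf J AddCommGrpCat.{u + 1} := ⟨((BigSite.piEtPull Scheme.etalePrecoverage S).obj F).obj, hs⟩
  let adj := (EtFppf.a S).sheafAdjunctionContinuous AddCommGrpCat.{u + 1} S.smallEtaleTopology J
  let φ : genPull F (J := J) ⟶ π := (adj.homEquiv F π).symm
    (ObjectProperty.homMk ((BigSite.piEtAdj Scheme.etalePrecoverage S).unit.app F).hom)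
  let ψ : π ⟶ genPull F (J := J) :=
    ObjectProperty.homMk (((BigSite.piEtAdj Scheme.etalePrecoverage S).homEquiv F (genEt hle (genPull F (J := J)))).symm
      (ObjectProperty.homMk (genUnit F (J := J)).hom)).hom
  have hφ : ∀ V : S.Etale, (adj.unit.app F).hom.app (op V) ≫ φ.hom.app (op ((EtFppf.a S).obj V)) =
      ((BigSite.piEtAdj Scheme.etalePrecoverage S).unit.app F).hom.app (op V) := fun V => by
    have h := (adj.homEquiv F π).apply_symm_apply
      (ObjectProperty.homMk ((BigSite.piEtAdj Scheme.etalePrecoverage S).unit.app F).hom)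
    rw [Adjunction.homEquiv_unit] at h
    exact congr(($h).hom.app (op V))
  have hψ : ∀ V : S.Etale, ((BigSite.piEtAdj Scheme.etalePrecoverage S).unit.app F).hom.app (op V) ≫
      ψ.hom.app (op ((EtFppf.a S).obj V)) = (adj.unit.app F).hom.app (op V) := fun V => by
    have h := ((BigSite.piEtAdj Scheme.etalePrecoverage S).homEquiv F (genEt hle (genPull F (J := J)))).apply_symm_apply
      (ObjectProperty.homMk (genUnit F (J := J)).hom)
    rw [Adjunction.homEquiv_unit] at h
    exact congr(($h).hom.app (op V))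
  refine ⟨ψ, (adj.homEquiv F _).injective ?_, ?_⟩
  · rw [Adjunction.homEquiv_unit, Adjunction.homEquiv_unit]
    ext1; ext1; funext V
    show (adj.unit.app F).hom.app V ≫ φ.hom.app _ ≫ ψ.hom.app _ = (adj.unit.app F).hom.app V ≫ 𝟙 _
    exact (Category.assoc _ _ _).symm.trans ((congrArg (· ≫ _) (hφ V.unop)).trans
      ((hψ V.unop).trans (Category.comp_id _).symm))
  · have h : (ObjectProperty.homMk (ψ ≫ φ).hom :
        (BigSite.piEtPull Scheme.etalePrecoverage S).obj F ⟶ (BigSite.piEtPull Scheme.etalePrecoverage S).obj F) = 𝟙 _ := by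
      refine ((BigSite.piEtAdj Scheme.etalePrecoverage S).homEquiv F _).injective ?_
      rw [Adjunction.homEquiv_unit, Adjunction.homEquiv_unit]
      ext1; ext1; funext V
      show ((BigSite.piEtAdj Scheme.etalePrecoverage S).unit.app F).hom.app V ≫ ψ.hom.app _ ≫ φ.hom.app _ =
        ((BigSite.piEtAdj Scheme.etalePrecoverage S).unit.app F).hom.app V ≫ 𝟙 _
      exact (Category.assoc _ _ _).symm.trans ((congrArg (· ≫ _) (hψ V.unop)).trans
        ((hφ V.unop).trans (Category.comp_id _).symm))
    ext1
    exact congr(($h).hom)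


include hle hv in
theorem isIso_unit_piEt (F : EtCoh.Ab X) : IsIso ((BigSite.piEtAdj K X).unit.app F) := by
  haveI := isIso_genHom hle hv F
  have h := unit_genHom hv F
  haveI : IsIso ((BigSite.piEtAdj K X).unit.app F ≫ (BigSite.resEt K X).map (genHom hv F)) := by
    rw [h]; exact isIso_unit X F
  exact IsIso.of_isIso_comp_right _ ((BigSite.resEt K X).map (genHom hv F))

variable [∀ S : Scheme.{u}, BigSite.EpsCont Scheme.etalePrecoverage K S]

include hle hv hr in
theorem isZero_RepsK_piEt (F : EtCoh.Ab X) (hF : EtCoh.IsTorsion F) (q : ℕ) (hq : 0 < q) :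
    IsZero (((epsK K X).rightDerived q).obj ((BigSite.piEtPull K X).obj F)) := by
  obtain ⟨m, rfl⟩ := Nat.exists_eq_succ_of_ne_zero hq.ne'
  haveI := isIso_genHom hle hv F
  exact (isZero_rightDerived_piK hv (acy hv hle hr m X F hF)).of_iso
    (((epsK K X).rightDerived (m + 1)).mapIso (asIso (genHom hv F)))

include hle hv in
theorem nonempty_epsK_piEt (F : EtCoh.Ab X) : Nonempty ((epsK K X).obj ((BigSite.piEtPull K X).obj F) ≅
    (BigSite.piEtPull Scheme.etalePrecoverage X).obj F) := by
  haveI := isIso_genHom hle hv F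
  exact ⟨(epsK K X).mapIso (asIso (genHom hv F)) ≪≫
    (fullyFaithfulSheafToPresheaf _ _).preimageIso
      (show ((epsK K X).obj (piK hv F)).obj ≅ ((BigSite.piEtPull Scheme.etalePrecoverage X).obj F).obj from Iso.refl _)⟩

/-- Restriction from the fine site factors through the big etale site. -/
noncomputable def resIso : BigSite.resEt K X ≅ epsK K X ⋙ BigSite.resEt Scheme.etalePrecoverage X :=
  NatIso.ofComponents (fun _ => Iso.refl _) (fun _ => (Category.comp_id _).trans (Category.id_comp _).symm)

include hle hv hr in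
theorem isZero_RresEt (F : EtCoh.Ab X) (hF : EtCoh.IsTorsion F) (q : ℕ) (hq : 0 < q) :
    IsZero ((BigSite.RresEt K X q).obj ((BigSite.piEtPull K X).obj F)) := by
  haveI : (BigSite.resEt Scheme.etalePrecoverage X).Additive := ⟨fun {_ _ _ _} => rfl⟩
  exact (Functor.map_isZero (BigSite.resEt Scheme.etalePrecoverage X) (isZero_RepsK_piEt hle hv hr F hF q hq)).of_iso
    ((rightDerivedIso (resIso (K := K) (X := X)) q).app _ ≪≫
      (SiteBase.rightDerivedCompIso (epsK K X) (BigSite.resEt Scheme.etalePrecoverage X) q).app _)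

theorem injective_resEt (I : BigSite.Ab K X) [Injective I] : Injective ((BigSite.resEt K X).obj I) := by
  haveI := representablyFlat_a X
  haveI : PreservesFiniteLimits (BigSite.piEtPull K X) :=
    sheafPullback_preservesFiniteLimits (EtFppf.a X) X.smallEtaleTopology (QuotSh.J K X)
  exact Injective.injective_of_adjoint (BigSite.piEtAdj K X) I

/-- Global sections of the restriction. -/
noncomputable def sectEquiv (G : BigSite.Ab K X) : EtCoh.H X ((BigSite.resEt K X).obj G) 0 ≃+ BigSite.H K X G 0 :=
  (Sheaf.H.equiv₀ ((BigSite.resEt K X).obj G) (EtCore.topIsTerminal X)).trans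
    ((G.obj.mapIso (Over.isoMk (Iso.refl _) rfl : (EtFppf.a X).obj (EtCoh.top X) ≅ Over.mk (𝟙 X)).symm.op).addCommGroupIsoToAddEquiv.trans
      (Sheaf.H.equiv₀ G Over.mkIdTerminal).symm)

omit [∀ S : Scheme.{u}, BigSite.EpsCont Scheme.etalePrecoverage K S] in
theorem sectEquiv_natural {G G' : BigSite.Ab K X} (φ : G ⟶ G') (y : BigSite.H K X G 0) :
    (sectEquiv (K := K) (X := X) G').symm (y.comp (Ext.mk₀ φ) (add_zero 0)) =
      ((sectEquiv (K := K) (X := X) G).symm y).comp (Ext.mk₀ ((BigSite.resEt K X).map φ)) (add_zero 0) := by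
  refine (sectEquiv (K := K) (X := X) G').injective ?_
  rw [AddEquiv.apply_symm_apply]
  have h : ∀ z : EtCoh.H X ((BigSite.resEt K X).obj G) 0,
      sectEquiv (K := K) (X := X) G' (z.comp (Ext.mk₀ ((BigSite.resEt K X).map φ)) (add_zero 0)) =
        (sectEquiv (K := K) (X := X) G z).comp (Ext.mk₀ φ) (add_zero 0) := fun z => by
    refine (congrArg (fun t => (Sheaf.H.equiv₀ G' Over.mkIdTerminal).symm
      ((G'.obj.mapIso (Over.isoMk (Iso.refl _) rfl : (EtFppf.a X).obj (EtCoh.top X) ≅ Over.mk (𝟙 X)).symm.op).addCommGroupIsoToAddEquiv t))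
      (Sheaf.H.equiv₀_naturality (EtCore.topIsTerminal X) ((BigSite.resEt K X).map φ) z).symm).trans ?_
    refine Eq.trans ?_ (Sheaf.H.equiv₀_symm_naturality Over.mkIdTerminal φ _).symm
    exact congrArg _ (ConcreteCategory.congr_hom (φ.hom.naturality
      (Over.isoMk (Iso.refl _) rfl : (EtFppf.a X).obj (EtCoh.top X) ≅ Over.mk (𝟙 X)).symm.op.hom) _).symm
  rw [h, AddEquiv.apply_symm_apply]

include hle hv hr in
theorem H_iso (F : EtCoh.Ab X) (hF : EtCoh.IsTorsion F) (q : ℕ) :
    Nonempty (EtCoh.H X F q ≃+ BigSite.H K X ((BigSite.piEtPull K X).obj F) q) := by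
  haveI : (BigSite.resEt K X).IsRightAdjoint := (BigSite.piEtAdj K X).isRightAdjoint
  haveI : PreservesFiniteLimits (BigSite.resEt K X) := inferInstance
  haveI := isIso_unit_piEt hle hv F
  obtain ⟨e⟩ := LerayDegen.ext_equiv_of_rightDerived _ _ (BigSite.resEt K X) (fun I hI => (haveI := hI; injective_resEt I))
    (fun G => (sectEquiv (K := K) (X := X) G).symm) (fun φ y => sectEquiv_natural φ y)
    (SESResLib.derivedLES (BigSite.resEt K X))
    ((BigSite.piEtPull K X).obj F) (fun k => isZero_RresEt hle hv hr F hF (k + 1) k.succ_pos) q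
  exact ⟨((EtCoh.HF X q).mapIso (asIso ((BigSite.piEtAdj K X).unit.app F))).addCommGroupIsoToAddEquiv.trans e.symm⟩

end Groth.Agent.GabberAff13.BigDesc
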