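import Groth.Agent.GabberAff13.BigDesc.Main
import Groth.Agent.HTopCov.PhBind

/-!
# Covering sieves of the ph and h topologies
-/

set_option autoImplicit false
set_option linter.style.haveILetI false
set_option backward.isDefEq.respectTransparency.types false

universe u

open CategoryTheory CategoryTheory.Limits AlgebraicGeometry Opposite TopologicalSpace HTop

namespace Groth.Agent.GabberAff13.BigDesc

open Groth.Agent.BigSiteLib

theorem refines_of_phCover {K : Precoverage Scheme.{u}}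
    (h : ∀ (T : Scheme.{u}) (R : Presieve T), R ∈ K T →
      ∃ E : PreZeroHypercover.{u + 1} T, IsPhCover E ∧ ∀ i, Sieve.generate R (E.f i)) :
    Refines K := by
  intro T R hR
  have hE : ∃ E : PreZeroHypercover.{u + 1} T, IsPhCover E ∧ ∀ i, R (E.f i) := by
    rw [Precoverage.mem_toGrothendieck_iff] at hR
    induction hR with
    | of X S hS => exact h X S hS
    | top X =>
      exact ⟨PreZeroHypercover.singleton.{u + 1} (𝟙 X), HTopCov.isPhCover_of_isVCover _
        (fun _ => inferInstanceAs (LocallyOfFinitePresentation (𝟙 X))) (HTopCov.isVCover_of_proper (𝟙 X)),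
        fun _ => trivial⟩
    | pullback X S _ Y f ih =>
      obtain ⟨E, hE, hm⟩ := ih
      refine ⟨E.pullback₁ f, HTopCov.isPhCover_pullback₁ f E hE, fun i => ?_⟩
      show S (pullback.fst f (E.f i) ≫ f)
      rw [pullback.condition]
      exact S.downward_closed (hm i) _
    | transitive X S R _ _ ihS ihR =>
      obtain ⟨E, hE, hm⟩ := ihS
      choose F hF hFm using fun i => ihR (hm i)
      exact ⟨E.bind F, HTopCov.isPhCover_bind E hE F hF, fun p => hFm p.1 p.2⟩
  obtain ⟨E, hE, hm⟩ := hE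
  intro t
  obtain ⟨V, hV, ht, -⟩ := exists_isAffineOpen_mem_and_subset (U := (⊤ : T.Opens)) (x := t) trivial
  obtain ⟨F, hF, hr⟩ := hE.2 ⟨V, hV⟩
  obtain ⟨Y, f, ι, hf, hfs, hι, hιf, hcov⟩ := hF.exists_proper
  refine ⟨_, Y, V.ι, f, inferInstance, ⟨⟨t, ht⟩, rfl⟩, hf, hfs, fun y => ?_⟩
  obtain ⟨j, hj⟩ := hcov y
  obtain ⟨i, k, hk⟩ := hr j
  refine ⟨F.X j, ι j, hι j, hj, ?_⟩
  have e : ι j ≫ f ≫ V.ι = k ≫ E.f i := ((Category.assoc _ _ _).symm.trans (congrArg (· ≫ V.ι) (hιf j))).trans hk.symm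
  rw [e]
  exact R.downward_closed (hm i) k

theorem refines_ph : Refines HTop.phPrecoverage.{u} := refines_of_phCover fun T R hR => by
  obtain ⟨𝒰, rfl⟩ := (Precoverage.mem_iff_exists_zeroHypercover (J := phPrecoverage)).1 hR
  exact ⟨𝒰.toPreZeroHypercover, (presieve₀_mem_phPrecoverage_iff _).1 𝒰.mem₀,
    fun i => Sieve.le_generate _ _ _ (Presieve.ofArrows.mk i)⟩

theorem refines_h : Refines HTop.hPrecoverage.{u} := refines_of_phCover fun T R hR => by
  obtain ⟨𝒰, rfl⟩ := (Precoverage.mem_iff_exists_zeroHypercover (J := hPrecoverage)).1 hR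
  have hh := (presieve₀_mem_hPrecoverage_iff _).1 𝒰.mem₀
  exact ⟨𝒰.toPreZeroHypercover, HTopCov.isPhCover_of_isVCover _ hh.1 hh.2,
    fun i => Sieve.le_generate _ _ _ (Presieve.ofArrows.mk i)⟩

instance epsCont_ph (S : Scheme.{u}) : BigSite.EpsCont Scheme.etalePrecoverage HTop.phPrecoverage.{u} S :=
  BigSite.epsCont_of_le etale_le_ph S

instance epsCont_h (S : Scheme.{u}) : BigSite.EpsCont Scheme.etalePrecoverage HTop.hPrecoverage.{u} S :=
  BigSite.epsCont_of_le etale_le_h S

end Groth.Agent.GabberAff13.BigDesc
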